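import Cfsg.Agent.Omega.NO3S.EMany.LowExt
import Cfsg.Agent.Omega.KL.Gen
import Cfsg.Agent.Omega.KL.Quo
import Cfsg.Agent.Lib.ProductSet

/-!
# Two `T`-fixed vectors `x`, `y` and an elementary abelian `F ≤ O₂(C_X(x)) ∩ O₂(C_X(y))`, exact on `⟨x^X⟩` and on `M`

* `exists_atom` : some `B ≤ F` is an exact atom on `M` and meets `C_X(⟨x^X⟩)` trivially;
* `ActE T F x y` : **the input**: every `T`-minimal `P` fixes `x` or `y`, `N_X(T)` fixes `x`,
  `|M : C_M(F)| ≤ |F : C_F(⟨x^X⟩)|`, `F` moves `⟨x^X⟩`;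
* **`ActE.false`** : contradiction from (ML) and 585's `Ext` (through 566's `InpG`).
-/

set_option autoImplicit false

namespace Cfsg.Agent.Omega.EK3.FK

open Subgroup Cfsg Cfsg.Agent.ZN Cfsg.Agent.ClassTwoFusion.Quad Cfsg.Agent.Omega.ML.MinFrame
open Cfsg.Agent.Omega.ML.Final
open Cfsg.Agent.MinSimple.MinParabolic (IsMinPar)
open Cfsg.Agent.MinSimple.VModule (o2_isPGroup o2_le le_o2 le_normalizer_o2 o2_le_of_sylow)
open Cfsg.Agent.Omega.ML.CD (card_eq_relIndex_mul)
open Cfsg.Agent.Omega.NO3S.EMany.Low (InpG)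

universe u v

/-- complements of subgroups of elementary abelian 2-groups -/
theorem exists_compl {X : Type*} [Group X] [Finite X] {F : Subgroup X} (el : ∀ a ∈ F, a * a = 1) {I : Subgroup X}
    (hI : I ≤ F) : ∃ B : Subgroup X, B ≤ F ∧ B ⊓ I = ⊥ ∧ Nat.card B = I.relIndex F := by
  have hc : ∀ a ∈ F, ∀ b ∈ F, a * b = b * a := by
    intro a ha b hb
    have h1 := el _ ha
    have h2 := el _ hb
    have h3 := el _ (mul_mem ha hb)
    calc a * b = a * b * ((a * b) * (a * b))⁻¹ := by rw [h3, inv_one, mul_one]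
      _ = b⁻¹ * a⁻¹ := by group
      _ = b * a := by rw [inv_eq_of_mul_eq_one_left h1, inv_eq_of_mul_eq_one_left h2]
  obtain ⟨B, hB⟩ := (Set.toFinite {B : Subgroup X | B ≤ F ∧ B ⊓ I = ⊥}).exists_maximal
    ⟨⊥, bot_le, bot_inf_eq I⟩
  have hBc : B ≤ centralizer (I : Set X) := fun b hb =>
    mem_centralizer_iff.2 fun i hi => (hc _ (hI hi) _ (hB.1.1 hb))
  refine ⟨B, hB.1.1, hB.1.2, ?_⟩
  have hsup : B ⊔ I = F := by
    apply le_antisymm (sup_le hB.1.1 hI)
    intro b hb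
    by_contra hcon
    have hbB : B ≤ centralizer ((zpowers b : Subgroup X) : Set X) := fun c hc' => by
      rw [mem_centralizer_iff]
      rintro _ ⟨n, rfl⟩
      exact hc _ (F.zpow_mem hb n) _ (hB.1.1 hc')
    have h1 : B ⊔ zpowers b ≤ B := by
      refine hB.2 ⟨sup_le hB.1.1 (zpowers_le.2 hb), ?_⟩ le_sup_left
      rw [eq_bot_iff]
      rintro x ⟨hx, hxI⟩
      have hx' : x ∈ ((B ⊔ zpowers b : Subgroup X) : Set X) := hx
      rw [coe_mul_of_left_le_normalizer_right B (zpowers b) (hbB.trans (centralizer_le_normalizer _))] at hx'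
      obtain ⟨c, hcB, z, ⟨k, rfl⟩, rfl⟩ := Set.mem_mul.1 hx'
      have hxI' : c * b ^ k ∈ I := hxI
      rcases Int.even_or_odd' k with ⟨j, hj | hj⟩
      · have h2 : b ^ k = 1 := by rw [hj, zpow_mul, zpow_two, el b hb, one_zpow]
        show c * b ^ k ∈ (⊥ : Subgroup X)
        rw [h2, mul_one] at hxI' ⊢
        rw [← hB.1.2]
        exact ⟨hcB, hxI'⟩
      · have h2 : b ^ k = b := by rw [hj, zpow_add, zpow_mul, zpow_two, el b hb, one_zpow, one_mul, zpow_one]
        rw [h2] at hxI'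
        exfalso
        apply hcon
        have h3 : b = c * (c * b) := by rw [← mul_assoc, el c (hB.1.1 hcB), one_mul]
        rw [h3]
        exact mul_mem_sup hcB hxI'
    exact hcon (mem_sup_left (h1 (mem_sup_right (mem_zpowers b))))
  have h1 : Nat.card (B ⊔ I : Subgroup X) * Nat.card (B ⊓ I : Subgroup X) = Nat.card B * Nat.card I := by
    rw [← Cfsg.Agent.Lib.ProductSet.card_mul_card_inf B I,
      ← coe_mul_of_left_le_normalizer_right B I (hBc.trans (centralizer_le_normalizer _))]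
    rfl
  rw [hsup, hB.1.2, card_bot, mul_one, card_eq_relIndex_mul hI] at h1
  exact (Nat.eq_of_mul_eq_mul_right Nat.card_pos h1).symm

section

variable {X : Type u} [Group X] [Finite X] {M : Type v} [Group M] [Finite M] [MulDistribMulAction X M]

/-- **an atom** -/
theorem exists_atom {F : Subgroup X} {U : Subgroup M} (el : ∀ a ∈ F, a * a = 1)
    (hno : ∀ A : Subgroup X, A ≤ F → (fxr X U).relIndex A ≤ (cv M (A : Set X)).index)
    (hex : (cv M (F : Set X)).index ≤ (fxr X U).relIndex F) (hmv : ¬ F ≤ fxr X U) :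
    ∃ B : Subgroup X, B ≤ F ∧ B ⊓ fxr X U = ⊥ ∧ B ≠ ⊥ ∧ (cv M (B : Set X)).index = Nat.card B ∧
      ∀ C : Subgroup X, C ≤ B → C ≠ ⊥ → C ≠ B → Nat.card C < (cv M (C : Set X)).index := by
  obtain ⟨F', hF', h0, hcard⟩ := exists_compl el (inf_le_left : F ⊓ fxr X U ≤ F)
  have h0' : F' ⊓ fxr X U = ⊥ := by
    rw [eq_bot_iff, ← h0]
    exact fun x hx => ⟨hx.1, hF' hx.1, hx.2⟩
  have hrel : ∀ B : Subgroup X, B ≤ F' → (fxr X U).relIndex B = Nat.card B := by
    intro B hB
    have h1 : (fxr X U ⊓ B : Subgroup X) = ⊥ := by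
      rw [eq_bot_iff, ← h0', inf_comm]
      exact inf_le_inf_right _ hB
    rw [← inf_relIndex_right, h1, relIndex_bot_left]
  have hnoB : ∀ B : Subgroup X, B ≤ F' → Nat.card B ≤ (cv M (B : Set X)).index := fun B hB => by
    rw [← hrel B hB]
    exact hno B (hB.trans hF')
  have hexF : (cv M (F' : Set X)).index = Nat.card F' := by
    refine le_antisymm ?_ (hnoB F' le_rfl)
    rw [hcard, inf_relIndex_left]
    exact (index_antitone (cv_anti (V := M) (show (F' : Set X) ⊆ F from hF'))).trans hex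
  have hne : F' ≠ ⊥ := by
    intro h1
    apply hmv
    have h2 : (F ⊓ fxr X U).relIndex F = 1 := by rw [← hcard, h1, card_bot]
    rw [inf_relIndex_left] at h2
    exact relIndex_eq_one.1 h2
  obtain ⟨B, ⟨hBF, hB1, hBe⟩, hmin⟩ : ∃ B : Subgroup X, (B ≤ F' ∧ B ≠ ⊥ ∧
      (cv M (B : Set X)).index = Nat.card B) ∧ ∀ B' : Subgroup X, (B' ≤ F' ∧ B' ≠ ⊥ ∧
      (cv M (B' : Set X)).index = Nat.card B') → B' ≤ B → B' = B := by
    obtain ⟨B, hB⟩ := (Set.toFinite {B : Subgroup X | B ≤ F' ∧ B ≠ ⊥ ∧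
      (cv M (B : Set X)).index = Nat.card B}).exists_minimal ⟨F', le_rfl, hne, hexF⟩
    exact ⟨B, hB.prop, fun B' hB' hle => le_antisymm hle (hB.le_of_le hB' hle)⟩
  refine ⟨B, hBF.trans hF', ?_, hB1, hBe, fun C hC hC1 hCB => ?_⟩
  · rw [eq_bot_iff, ← h0']
    exact inf_le_inf_right _ hBF
  · exact lt_of_le_of_ne (hnoB C (hC.trans hBF)) fun h1 => hCB (hmin C ⟨hC.trans hBF, hC1, h1.symm⟩ hC)

end

/-- **The input.** -/
structure ActE {X : Type u} [Group X] {M : Type v} [Group M] [MulDistribMulAction X M] (T F : Subgroup X) (x y : M) :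
    Prop where
  sq : ∀ m : M, m * m = 1
  two : IsPGroup 2 T
  syl : ¬ 2 ∣ T.index
  el : ∀ a ∈ F, a * a = 1
  nx : ∀ g ∈ normalizer (T : Set X), g • x = x
  ty : ∀ t ∈ T, t • y = y
  Ax : F ≤ o2 (MulAction.stabilizer X x)
  Ay : F ≤ o2 (MulAction.stabilizer X y)
  uni : ∀ P : Subgroup X, IsMinPar T P → (∀ p ∈ P, p • x = x) ∨ ∀ p ∈ P, p • y = y
  mv : ¬ F ≤ fxr X (orb (⊤ : Subgroup X) x)
  ex : (cv M (F : Set X)).index ≤ (fxr X (orb (⊤ : Subgroup X) x)).relIndex F
  KX : IsKGroup X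

section

variable {X : Type u} [Group X] [Finite X] {M : Type v} [Group M] [Finite M] [MulDistribMulAction X M]
  {T F : Subgroup X} {x y : M}

theorem ActE.tx (h : ActE T F x y) {t : X} (ht : t ∈ T) : t • x = x := h.nx t (le_normalizer ht)

theorem ActE.exists_inp (hM : MLK.{u, v}) (h : ActE T F x y) : ∃ B : Subgroup X, InpG T B ({x, y} : Set M) := by
  obtain ⟨B, hBF, hB0, hB1, hBe, hBa⟩ := exists_atom (M := M) (U := orb (⊤ : Subgroup X) x) h.el
    (fun A hA => (KL.GenTool.no_orb hM h.KX h.sq h.two h.syl (fun t ht => h.tx ht) (fun a ha => h.el a (hA ha))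
      (hA.trans h.Ax)).trans (by
        rw [← relIndex_top_right]
        exact relIndex_le_of_le_right le_top index_ne_zero_of_finite)) h.ex h.mv
  refine ⟨B, ?_⟩
  refine
    { sq := h.sq
      two := h.two
      syl := h.syl
      el := fun a ha => h.el a (hBF ha)
      exact := hBe
      atom := hBa
      nT := fun hc => hB1 ?_
      tS := ?_
      low := ?_
      nN := ⟨x, Or.inl rfl, h.nx⟩
      uni := fun P hP => ?_
      KH := h.KX }
  · rw [eq_bot_iff, ← hB0]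
    exact fun b hb => ⟨hb, KL.Gen.o2_top_le h.two h.syl (fun t ht => h.tx ht) (hc hb)⟩
  · rintro m (rfl | rfl) t ht
    · exact h.tx ht
    · exact h.ty t ht
  · rintro m (rfl | rfl)
    · exact hBF.trans h.Ax
    · exact hBF.trans h.Ay
  · rcases h.uni P hP with h1 | h1
    · exact ⟨x, Or.inl rfl, h1⟩
    · exact ⟨y, Or.inr rfl, h1⟩

/-- **contradiction** -/
theorem ActE.false (hM : MLK.{u, v}) (hE : ML.Ex.Two.Ext.{u, v}) (h : ActE T F x y) : False := by
  obtain ⟨B, hB⟩ := h.exists_inp hM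
  obtain ⟨H, _, _, N, _, _, _, T', A', x', y', hs⟩ := hB.exists_sysT hM
  exact hE H N T' A' x' y' hs

end

end Cfsg.Agent.Omega.EK3.FK
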