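import Cfsg.Agent.Omega.NO3S.EThree.FrameGB
import Cfsg.Agent.Omega.TC.OfMul
import Cfsg.Agent.Omega.EK3.Base

/-!
# (4F-K) (bb #22920, #23808): the frame

`q = 4`, `k ≥ 2`, `T = S ∩ ⋂ N(W_l)`, `C_{Z_l}(T) = ⟨z_l⟩` of order 2, `Y_j = C_G(z_l : l ≠ j)`, `D = C_G(z_l : l)`.

* `FrK` : the frame;
* `FrK.fx_YY` : `n ∈ N_G(B) ∩ Y_j` normalises all `W l`, `Z l`;
* `FrK.syl_of`, `FrK.syl_D` : `T` is Sylow in every `X` with `T ≤ X ≤ Y_j`;
* `FrK.norm_T` : `N_{Y_j}(T) ≤ D ∩ ⋂ N(Z_l)`;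
* `FrK.norm_ZJ` : `N_{Y_j}(ZJ)` normalises all `Z l`;
* `FrK.par` : members of `P(Y_j, T)` moving `z_j`.
-/

set_option autoImplicit false
set_option linter.unusedSectionVars false

namespace Cfsg.Agent.Omega.EK3.FK

open Subgroup Cfsg Cfsg.Agent.ZN.ChoiceBase
open Cfsg.Agent.ZN (jj zj bau zc zl o2)
open Cfsg.Agent.ZN.ChoiceSit (Syl exists_syl syl_conj)
open Cfsg.Agent.Omega.NO3S.EThree.Frame
open Cfsg.Agent.Omega.Node.MultiOf
open Cfsg.Agent.Omega.OM.LevD (LB)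
open Cfsg.Agent.MinSimple.MinParabolic (IsMinPar)

universe u

variable {G : Type u} [Group G] {k : ℕ}

/-- `T = S ∩ ⋂ N(W_l)` -/
def TT [Finite G] (S : Sylow 2 G) (W : Fin k → Subgroup G) : Subgroup G :=
  (S : Subgroup G) ⊓ ⨅ l, normalizer (W l : Set G)

/-- `D = C_G(z_l : l)` -/
abbrev DD (z : Fin k → G) : Subgroup G := CT z Set.univ

/-- `Y_j = C_G(z_l : l ≠ j)` -/
abbrev YY (z : Fin k → G) (j : Fin k) : Subgroup G := CT z {j}ᶜ

/-- `C_ij = C_G(z_l : l ≠ i, j)` -/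
abbrev CC (z : Fin k → G) (i j : Fin k) : Subgroup G := CT z ({i, j} : Set (Fin k))ᶜ

theorem mem_DD {z : Fin k → G} {x : G} : x ∈ DD z ↔ ∀ l, x * z l = z l * x :=
  mem_CT.trans ⟨fun h l => h l (Set.mem_univ l), fun h l _ => h l⟩

theorem mem_YY {z : Fin k → G} {j : Fin k} {x : G} : x ∈ YY z j ↔ ∀ l, l ≠ j → x * z l = z l * x :=
  mem_CT.trans ⟨fun h l hl => h l hl, fun h l hl => h l hl⟩

theorem DD_le_CT {z : Fin k → G} {s : Set (Fin k)} : DD z ≤ CT z s := CT_mono (Set.subset_univ _)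

theorem mem_DD_of {z : Fin k → G} {j : Fin k} {x : G} (h : x ∈ YY z j) (hj : x * z j = z j * x) : x ∈ DD z :=
  mem_DD.2 fun l => by
    by_cases e : l = j
    · rw [e]; exact hj
    · exact mem_YY.1 h l e

/-- `X ≤ N(W)` -/
theorem le_norm_of {X W : Subgroup G} (h : ∀ g ∈ X, ∀ w ∈ W, g * w * g⁻¹ ∈ W) : X ≤ normalizer (W : Set G) := by
  intro g hg
  rw [mem_normalizer_iff]
  intro w
  refine ⟨h g hg w, fun hw => ?_⟩
  have h1 := h g⁻¹ (inv_mem hg) _ hw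
  have e : g⁻¹ * (g * w * g⁻¹) * g⁻¹⁻¹ = w := by group
  rwa [e] at h1

/-- **The frame.** -/
structure FrK [Finite G] (S : Sylow 2 G) (P K B ZJ : Subgroup G) (L W Z C : Fin k → Subgroup G) (z : Fin k → G) :
    Prop where
  mul : Mul S P K B ZJ L W Z C 4
  two : 2 ≤ k
  zZ : ∀ i, z i ∈ Z i
  z1 : ∀ i, z i ≠ 1
  Tz : ∀ i, ∀ t ∈ TT S W, t * z i = z i * t
  /-- `C_{Z_i}(T) = ⟨z_i⟩` -/
  fx : ∀ i, ∀ w ∈ Z i, (∀ t ∈ TT S W, t * w = w * t) → w = 1 ∨ w = z i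
  uni : ∀ L' V' : Subgroup G, FBl B L' V' → ∃ i, V' = W i ∧ ∀ z ∈ ZJ, z ∈ C i → ∀ l ∈ L', l * z = z * l
  blk : TC.OfMul.BlkS K B (TT S W)

namespace FrK

variable [Finite G] {S : Sylow 2 G} {P K B ZJ : Subgroup G} {L W Z C : Fin k → Subgroup G} {z : Fin k → G}
  (h : FrK S P K B ZJ L W Z C z)
include h

theorem bg : Bg S P B ZJ L W Z C 4 := h.mul.bg

theorem lb : LB S K B ZJ := h.mul.lb

omit h in
theorem T_le_S : TT S W ≤ (S : Subgroup G) := inf_le_left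

omit h in
theorem T_two : IsPGroup 2 (TT S W) := S.isPGroup'.to_le T_le_S

omit h in
theorem T_W (l : Fin k) : TT S W ≤ normalizer (W l : Set G) := inf_le_right.trans (iInf_le _ l)

omit h in
theorem mem_T {s : G} (hs : s ∈ (S : Subgroup G)) (hW : ∀ l, cj s (W l) = W l) : s ∈ TT S W :=
  mem_inf.2 ⟨hs, mem_iInf.2 fun l => mem_normalizer_iff_cj.2 (hW l)⟩

theorem B_W (l : Fin k) : B ≤ normalizer (W l : Set G) := le_norm_of fun b hb w hw =>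
  (h.bg.fr.blk l).nV b ((h.bg.fr.blk l).BL hb) w hw

theorem B_T : B ≤ TT S W := le_inf h.bg.BS (le_iInf h.B_W)

theorem T_B : TT S W ≤ normalizer (B : Set G) := T_le_S.trans h.bg.S_norm_B

theorem cj_Z_of_W {n : G} (hn : n ∈ normalizer (B : Set G)) {i j : Fin k} (e : cj n (W i) = W j) :
    cj n (Z i) = Z j := h.bg.cj_Z hn e

theorem T_Z (l : Fin k) : TT S W ≤ normalizer (Z l : Set G) := fun _ ht =>
  mem_normalizer_iff_cj.2 (h.cj_Z_of_W (h.T_B ht) (mem_normalizer_iff_cj.1 (T_W l ht)))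

theorem z_W (i : Fin k) : z i ∈ W i := (h.bg.fr.blk i).ZV (h.zZ i)

theorem z_ZJ (i : Fin k) : z i ∈ ZJ := h.bg.fr.Z_le i (h.zZ i)

theorem Z_B (i : Fin k) : Z i ≤ B := ((h.bg.fr.Z_le i).trans h.bg.fr.ZJV).trans h.bg.fr.VB

theorem ZJ_B : ZJ ≤ B := h.bg.fr.ZJV.trans h.bg.fr.VB

theorem ZJ_comm {a b : G} (ha : a ∈ ZJ) (hb : b ∈ ZJ) : a * b = b * a :=
  h.bg.fr.Vc (h.bg.fr.ZJV ha) (h.bg.fr.ZJV hb)

theorem ZJ_sq {a : G} (ha : a ∈ ZJ) : a ^ 2 = 1 := h.bg.fr.Vsq (h.bg.fr.ZJV ha)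

theorem z_comm (i : Fin k) {t : G} (ht : t ∈ TT S W) : t * z i = z i * t := h.Tz i t ht

theorem T_D : TT S W ≤ DD z := fun _ ht => mem_DD.2 fun l => h.Tz l _ ht

theorem T_Y (j : Fin k) : TT S W ≤ YY z j := h.T_D.trans DD_le_CT

theorem cZJ_D : centralizer (ZJ : Set G) ≤ DD z := fun _ hx => mem_DD.2 fun l =>
  (mem_centralizer_iff.1 hx _ (h.z_ZJ l)).symm

theorem eq_of_z_mem {i l : Fin k} (h1 : z l ∈ Z i) : i = l := by
  by_contra hne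
  have h2 : z l ∈ Z i ⊓ Z l := ⟨h1, h.zZ l⟩
  rw [h.bg.Z_disj hne, mem_bot] at h2
  exact h.z1 l h2

/-- `n ∈ N_G(B)` centralising `z l` normalises `W l` and `Z l` -/
theorem fx_of_z {n : G} (hn : n ∈ normalizer (B : Set G)) {l : Fin k} (hl : n * z l = z l * n) :
    cj n (W l) = W l ∧ cj n (Z l) = Z l := by
  obtain ⟨σ, hσ⟩ := h.bg.perm_W hn
  have h1 : z l ∈ Z (σ l) := by
    rw [← (hσ l).2, mem_cj]
    have e : n⁻¹ * z l * n = z l := by rw [mul_assoc, ← hl]; group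
    rw [e]
    exact h.zZ l
  have h2 := h.eq_of_z_mem h1
  have h3 := hσ l
  rwa [h2] at h3

/-- **`n ∈ N_G(B) ∩ Y_j` normalises all `W l`, `Z l`** -/
theorem fx_YY {j : Fin k} {n : G} (hn : n ∈ normalizer (B : Set G)) (hY : n ∈ YY z j) (l : Fin k) :
    cj n (W l) = W l ∧ cj n (Z l) = Z l := by
  by_cases hl : l = j
  · subst hl
    obtain ⟨σ, hσ⟩ := h.bg.perm_W hn
    have h1 : σ l = l := by
      by_contra hne
      have h2 := h.fx_of_z hn (mem_YY.1 hY _ hne)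
      have h3 := (hσ (σ l)).1
      rw [h2.1] at h3
      exact hne (σ.injective (h.bg.W_inj h3).symm)
    have h3 := hσ l
    rwa [h1] at h3
  · exact h.fx_of_z hn (mem_YY.1 hY l hl)

/-- a 2-group over `B` normalising all `W l` has order `≤ |T|` -/
theorem card_le {R : Subgroup G} (hR : IsPGroup 2 R) (hB : B ≤ R) (hf : ∀ r ∈ R, ∀ l, cj r (W l) = W l) :
    Nat.card R ≤ Nat.card (TT S W) := by
  have h1 := h.bg.le_norm_B hR hB
  obtain ⟨R', hR', hle⟩ := exists_syl hR h1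
  have hS : Syl (S : Subgroup G) (normalizer (B : Set G)) :=
    ⟨h.bg.S_norm_B, S.isPGroup', fun _ _ hT hST => S.is_maximal' hT hST⟩
  obtain ⟨x, hx, rfl⟩ := syl_conj hS hR'
  rw [← card_cj x⁻¹ R]
  refine Subgroup.card_le_of_le fun y hy => ?_
  rw [mem_cj, inv_inv] at hy
  have h2 : y ∈ (S : Subgroup G) := by
    have h3 := hle hy
    rw [mem_cj] at h3
    have e : x⁻¹ * (x * y * x⁻¹) * x = y := by group
    rwa [e] at h3
  refine mem_T h2 fun l => ?_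
  obtain ⟨σ, hσ⟩ := h.bg.perm_W hx
  have h3 := hf _ hy (σ l)
  rw [← (hσ l).1] at h3
  have h4 := congrArg (cj x⁻¹) h3
  rw [cj_cj, cj_inv_cj, cj_cj] at h4
  have e : x⁻¹ * (x * y * x⁻¹) * x = y := by group
  rwa [e] at h4

/-- **`T` is Sylow in `X`** -/
theorem syl_of {X : Subgroup G} (hT : TT S W ≤ X)
    (hf : ∀ R : Subgroup G, R ≤ X → IsPGroup 2 R → B ≤ R → ∀ r ∈ R, ∀ l, cj r (W l) = W l) : Syl (TT S W) X := by
  refine ⟨hT, T_two, fun R hR h2 hle => ?_⟩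
  symm
  exact Subgroup.eq_of_le_of_card_ge hle (h.card_le h2 (h.B_T.trans hle) (hf R hR h2 (h.B_T.trans hle)))

theorem syl_Y {X : Subgroup G} {j : Fin k} (hT : TT S W ≤ X) (hX : X ≤ YY z j) : Syl (TT S W) X :=
  h.syl_of hT fun _ hR h2 hB _ hr l => (h.fx_YY (h.bg.le_norm_B h2 hB hr) (hX (hR hr)) l).1

/-- `0 < k` -/
theorem exists_idx : ∃ j : Fin k, True := ⟨⟨0, by have := h.two; omega⟩, trivial⟩

theorem syl_D {X : Subgroup G} (hT : TT S W ≤ X) (hX : X ≤ DD z) : Syl (TT S W) X := by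
  obtain ⟨j, -⟩ := h.exists_idx
  exact h.syl_Y hT (hX.trans (DD_le_CT (s := {j}ᶜ)))

/-- `N(T) ≤ N(B)` -/
theorem NT_NB : normalizer (TT S W : Set G) ≤ normalizer (B : Set G) := by
  intro g hg
  rw [mem_normalizer_iff_cj]
  refine h.bg.wc _ T_two h.B_T g ?_
  have h1 := cj_mono g h.B_T
  rwa [mem_normalizer_iff_cj.1 hg] at h1

/-- `n ∈ N_G(B) ∩ N_G(T)` permutes the `z i` -/
theorem cj_z {n : G} (hn : n ∈ normalizer (B : Set G)) (hT : n ∈ normalizer (TT S W : Set G)) {i j : Fin k}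
    (e : cj n (Z i) = Z j) : n * z i * n⁻¹ = z j := by
  refine (h.fx j _ (e ▸ ⟨z i, h.zZ i, rfl⟩) fun t ht => ?_).resolve_left fun e1 => h.z1 i (conj_eq_one_iff.1 e1)
  have h1 : n⁻¹ * t * n ∈ TT S W := by
    have := (mem_normalizer_iff.1 (inv_mem hT) t).1 ht
    rwa [inv_inv] at this
  have h2 := h.Tz i _ h1
  calc t * (n * z i * n⁻¹) = n * ((n⁻¹ * t * n) * z i) * n⁻¹ := by group
    _ = n * (z i * (n⁻¹ * t * n)) * n⁻¹ := by rw [h2]
    _ = n * z i * n⁻¹ * t := by group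

/-- **`N_{Y_j}(T) ≤ D`, and it normalises all `Z l`** -/
theorem norm_T {j : Fin k} {n : G} (hY : n ∈ YY z j) (hT : n ∈ normalizer (TT S W : Set G)) :
    n ∈ DD z ∧ ∀ l, n ∈ normalizer (Z l : Set G) := by
  have hn := h.NT_NB hT
  refine ⟨mem_DD.2 fun l => ?_, fun l => mem_normalizer_iff_cj.2 (h.fx_YY hn hY l).2⟩
  exact mul_inv_eq_iff_eq_mul.1 (h.cj_z hn hT (h.fx_YY hn hY l).2)

/-- Frattini: `N(ZJ) = C(ZJ) N(B)` -/
theorem frattini {g : G} (hg : g ∈ normalizer (ZJ : Set G)) :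
    ∃ d ∈ centralizer (ZJ : Set G), ∃ n ∈ normalizer (B : Set G), g = d * n := by
  have h1 : Syl (cj g B) (centralizer (ZJ : Set G)) := by
    refine ⟨?_, isPGroup_cj g h.bg.bau_two, fun R hR h2 hle => ?_⟩
    · have := cj_mono g h.bg.syl_B.1
      rwa [cj_centralizer, mem_normalizer_iff_cj.1 hg] at this
    · symm
      refine Subgroup.eq_of_le_of_card_ge hle ?_
      rw [card_cj]
      obtain ⟨R', hR', hle'⟩ := exists_syl h2 hR
      obtain ⟨x, -, rfl⟩ := syl_conj h.bg.syl_B hR'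
      have h3 := Subgroup.card_le_of_le hle'
      rwa [card_cj] at h3
  obtain ⟨d, hd, e⟩ := syl_conj h.bg.syl_B h1
  refine ⟨d, hd, d⁻¹ * g, ?_, by group⟩
  rw [mem_normalizer_iff_cj, ← cj_cj, ← e, cj_inv_cj]

/-- **`N_{Y_j}(ZJ)` normalises all `Z l`** -/
theorem norm_ZJ {j : Fin k} {g : G} (hY : g ∈ YY z j) (hZ : g ∈ normalizer (ZJ : Set G)) (l : Fin k) :
    g ∈ normalizer (Z l : Set G) := by
  obtain ⟨d, hd, n, hn, rfl⟩ := h.frattini hZ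
  have hdY : d ∈ YY z j := DD_le_CT (h.cZJ_D hd)
  have hnY : n ∈ YY z j := by
    have := mul_mem (inv_mem hdY) hY
    rwa [inv_mul_cancel_left] at this
  refine mul_mem ?_ (mem_normalizer_iff_cj.2 (h.fx_YY hn hnY l).2)
  exact centralizer_le_normalizer _ (centralizer_le (h.bg.fr.Z_le l) hd)

/-- `L i ≤ Y i` -/
theorem L_Y (i : Fin k) : L i ≤ YY z i := fun l hl => mem_YY.2 fun m hm =>
  h.bg.fr.LC i l hl _ (h.z_ZJ m) (h.bg.fr.WjC i m (Ne.symm hm) (h.z_W m))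

theorem L_W (i : Fin k) : L i ≤ normalizer (W i : Set G) := le_norm_of fun l hl w hw => (h.bg.fr.blk i).nV l hl w hw

/-- the point `x ∈ Y_i ∩ N(Z_i)` moving `z_i` to `w ∈ Z_i` -/
theorem tor {i : Fin k} {w : G} (hw : w ∈ Z i) (hw1 : w ≠ 1) :
    ∃ x ∈ YY z i, x ∈ normalizer (Z i : Set G) ∧ x ∈ normalizer (W i : Set G) ∧ x * z i * x⁻¹ = w := by
  obtain ⟨x, hx, hxB, e⟩ := h.bg.tor i (h.zZ i) (h.z1 i) hw hw1
  exact ⟨x, h.L_Y i hx, mem_normalizer_iff_cj.2 (h.fx_YY hxB (h.L_Y i hx) i).2, h.L_W i hx, e⟩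

end FrK

end Cfsg.Agent.Omega.EK3.FK
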