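import Cfsg.Agent.Omega.EK3.FK.Fr

/-!
# (4F-K): minimal parabolics of `Y_j` over `T`, and `Y_j = ⟨D, Y_j ∩ N(Z_j)⟩`

* `FrK.char2_CT`, `FrK.o2_Y_le_T`, `FrK.char2_R`;
* `FrK.par` : a `T`-minimal `R ≤ Y_j` centralises `z_j`, or normalises all `Z l`, or `R = ⟨T, L'⟩`, where `L'` normalises
  `W_j` and centralises the other `Z l`;
* `FrK.trW` : `Y_i ∩ N(Z_i) ∩ N(W_i)` is transitive on `W_i − Z_i`;
* `FrK.norm_W_le` : `N_{Y_i}(W_i) ≤ ⟨D, Y_i ∩ N(Z_i)⟩`;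
* **`FrK.gen`** : `Y_i ≤ ⟨D, Y_i ∩ N(Z_i)⟩`.
-/

set_option autoImplicit false
set_option linter.unusedSectionVars false

namespace Cfsg.Agent.Omega.EK3.FK

open Subgroup Cfsg Cfsg.Agent.ZN.ChoiceBase
open Cfsg.Agent.ZN (jj zj bau zc zl o2)
open Cfsg.Agent.ZN.ChoiceSit (Syl exists_syl syl_conj)
open Cfsg.Agent.Omega.NO3S.EThree.Frame
open Cfsg.Agent.Omega.Node.MultiOf
open Cfsg.Agent.Omega.OM.LevD (LB)
open Cfsg.Agent.MinSimple.MinParabolic (IsMinPar le_of_forall)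
open Cfsg.Agent.MinSimple.VModule (o2_isPGroup le_o2 le_normalizer_o2 o2_le_of_sylow)

universe u

variable {G : Type u} [Group G] {k : ℕ}

namespace FrK

variable [Finite G] {S : Sylow 2 G} {P K B ZJ : Subgroup G} {L W Z C : Fin k → Subgroup G} {z : Fin k → G}
  (h : FrK S P K B ZJ L W Z C z)
include h

/-- `C_G(z_l : l ∈ s)` has characteristic 2 -/
theorem char2_CT {s : Set (Fin k)} (hs : s.Nonempty) :
    CT z s ⊓ centralizer (o2 (CT z s) : Set G) ≤ o2 (CT z s) := by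
  have e : CT z s = centralizer ((closure (z '' s) : Subgroup G) : Set G) := (centralizer_closure _).symm
  have hle : closure (z '' s) ≤ ZJ := by
    rw [closure_le]
    rintro _ ⟨l, -, rfl⟩
    exact h.z_ZJ l
  rw [e]
  refine NOne.LemmaT.char2_centralizer h.bg.hyp.ctx.char2 (h.bg.bau_two.to_le (hle.trans h.ZJ_B)) ?_
  obtain ⟨l, hl⟩ := hs
  intro e1
  have h1 : z l ∈ closure (z '' s) := subset_closure ⟨l, hl, rfl⟩
  rw [e1, mem_bot] at h1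
  exact h.z1 l h1

theorem exists_ne (j : Fin k) : ∃ i, i ≠ j := by
  have h3 := h.two
  by_cases e : j = ⟨0, by omega⟩
  · exact ⟨⟨1, by omega⟩, by rw [e]; simp⟩
  · exact ⟨⟨0, by omega⟩, fun e' => e e'.symm⟩

omit h in
theorem exists_third (h3 : 3 ≤ k) (i j : Fin k) : ∃ l, l ≠ i ∧ l ≠ j := by
  classical
  by_contra hcon
  push Not at hcon
  have h1 : (Finset.univ : Finset (Fin k)) ⊆ {i, j} := by
    intro l _
    by_cases e : l = i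
    · simp [e]
    · simp [hcon l e]
  have h2 := (Finset.card_le_card h1).trans (Finset.card_le_two)
  rw [Finset.card_univ, Fintype.card_fin] at h2
  omega

theorem ne_compl (j : Fin k) : ({j}ᶜ : Set (Fin k)).Nonempty := by
  obtain ⟨i, hi⟩ := h.exists_ne j
  exact ⟨i, hi⟩

omit h in
theorem ne_compl2 (h3 : 3 ≤ k) (i j : Fin k) : (({i, j} : Set (Fin k))ᶜ).Nonempty := by
  obtain ⟨l, h1, h2⟩ := exists_third h3 i j
  exact ⟨l, fun e => by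
    rcases e with e | e
    · exact h1 e
    · exact h2 e⟩

theorem o2_Y_le_T (j : Fin k) : o2 (YY z j) ≤ TT S W :=
  o2_le_of_sylow T_two (Cfsg.Agent.ZN.ChoiceSit.syl_not_dvd (h.syl_Y (h.T_Y j) le_rfl))

/-- groups between `T` and `Y_j` have characteristic 2 -/
theorem char2_R {R : Subgroup G} {j : Fin k} (hT : TT S W ≤ R) (hR : R ≤ YY z j) :
    R ⊓ centralizer (o2 R : Set G) ≤ o2 R := by
  have h1 : o2 (YY z j) ≤ o2 R := MinSimple.Basic.o2_normal_le_o2 ((h.o2_Y_le_T j).trans hT) hR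
  intro x hx
  exact h1 (h.char2_CT (h.ne_compl j) ⟨hR hx.1, centralizer_le h1 hx.2⟩)

theorem z_zc (j : Fin k) : z j ∈ zc (TT S W) :=
  mem_zc.2 ⟨h.B_T (h.Z_B j (h.zZ j)), h.ZJ_sq (h.z_ZJ j), fun t ht => h.Tz j t ht⟩

/-- **minimal parabolics of `Y_j` over `T`** -/
theorem par {R : Subgroup G} {j : Fin k} (hR : IsMinPar (TT S W) R) (hY : R ≤ YY z j) :
    (∀ r ∈ R, r * z j = z j * r) ∨ (∀ l, R ≤ normalizer (Z l : Set G)) ∨
      ∃ L' : Subgroup G, L' ≤ R ∧ R ≤ L' ⊔ TT S W ∧ L' ≤ normalizer (W j : Set G) ∧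
        ∀ l, l ≠ j → L' ≤ centralizer (Z l : Set G) := by
  by_cases h1 : ∀ r ∈ R, r * z j = z j * r
  · exact Or.inl h1
  right
  by_cases hK : K ≤ o2 R
  · left
    intro l r hr
    exact h.norm_ZJ (hY hr) (h.lb.nrm _ (o2_isPGroup R) hK (le_normalizer_o2 R hr)) l
  right
  have h2 : ¬ R ≤ centralizer (zc (TT S W) : Set G) := by
    intro hc
    apply h1
    intro r hr
    exact (mem_centralizer_iff.1 (hc hr) _ (h.z_zc j)).symm
  obtain ⟨L', V', hbl, hLR, hRL⟩ := h.blk R hR (h.syl_Y hR.le hY) (h.char2_R hR.le hY) hK h2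
  obtain ⟨i, rfl, hc⟩ := h.uni L' _ hbl
  obtain ⟨⟨Z', q', hF⟩, -⟩ := hbl
  have hij : i = j := by
    by_contra hne
    apply h1
    have h3 : L' ≤ centralizer ({z j} : Set G) := by
      intro l hl
      rw [mem_centralizer_singleton_iff]
      exact hc _ (h.z_ZJ j) (h.bg.fr.WjC i j hne (h.z_W j)) l hl
    have h4 : R ≤ centralizer ({z j} : Set G) := hRL.trans (sup_le h3 fun t ht => by
      rw [mem_centralizer_singleton_iff]; exact h.Tz j t ht)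
    exact fun r hr => mem_centralizer_singleton_iff.1 (h4 hr)
  subst hij
  refine ⟨L', hLR, hRL, le_norm_of hF.nV, fun l hl x hx => ?_⟩
  rw [mem_centralizer_iff]
  intro y hy
  exact (hc y (h.bg.fr.Z_le l hy) (h.bg.fr.WjC i l (Ne.symm hl) ((h.bg.fr.blk l).ZV hy)) x hx).symm

/-- elements of `C(C_i) ∩ N(B)`… centralise the other `z l` -/
theorem YY_of_C {i : Fin k} {x : G} (hx : x ∈ centralizer (C i : Set G)) : x ∈ YY z i := mem_YY.2 fun l hl =>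
  (mem_centralizer_iff.1 hx _ (h.bg.fr.WjC i l (Ne.symm hl) (h.z_W l))).symm

/-- **`Y_i ∩ N(Z_i) ∩ N(W_i)` is transitive on `W_i − Z_i`** -/
theorem trW {i : Fin k} {v v' : G} (hv : v ∈ W i) (hvZ : v ∉ Z i) (hv' : v' ∈ W i) (hvZ' : v' ∉ Z i) :
    ∃ x ∈ YY z i, x ∈ normalizer (Z i : Set G) ∧ x ∈ normalizer (W i : Set G) ∧ x * v * x⁻¹ = v' := by
  obtain ⟨g, hg, hgC, hgZ, -, h1, -⟩ := (h.bg.scal (by norm_num) i).ex v hv hvZ v' hv' hvZ'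
  have hgW : g ∈ normalizer (W i : Set G) := mem_normalizer_iff_cj.2 (h.bg.fix hg hgC i)
  have h2 : g * v * g⁻¹ ∈ W i := (mem_normalizer_iff.1 hgW v).1 hv
  have h3 : g * v * g⁻¹ ∉ Z i := fun hc => hvZ ((mem_normalizer_iff.1 hgZ v).2 hc)
  obtain ⟨b, hb, hbC, e⟩ := h.bg.root i _ h2 h3 _ (inv_mem h1)
  refine ⟨b * g, mul_mem (h.YY_of_C hbC) (h.YY_of_C hgC), mul_mem ?_ hgZ, mul_mem (h.B_W i hb) hgW, ?_⟩
  · exact h.T_Z i (h.B_T hb)
  · have hc : (v'⁻¹ * (g * v * g⁻¹))⁻¹ * (g * v * g⁻¹) = v' := by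
      have e1 : v' * (g * v * g⁻¹) = g * v * g⁻¹ * v' :=
        h.bg.fr.Vc (h.bg.fr.WV i hv') (h.bg.fr.WV i h2)
      calc (v'⁻¹ * (g * v * g⁻¹))⁻¹ * (g * v * g⁻¹) = (g * v * g⁻¹)⁻¹ * (v' * (g * v * g⁻¹)) := by group
        _ = v' := by rw [e1]; group
    calc b * g * v * (b * g)⁻¹ = b * (g * v * g⁻¹) * b⁻¹ * (g * v * g⁻¹)⁻¹ * (g * v * g⁻¹) := by group
      _ = v' := by rw [e, hc]

/-- **`N_{Y_i}(W_i) ≤ ⟨D, Y_i ∩ N(Z_i)⟩`** -/
theorem norm_W_le {i : Fin k} (hp : ∃ f ∈ DD z, f ∈ normalizer (W i : Set G) ∧ f ∉ normalizer (Z i : Set G)) :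
    YY z i ⊓ normalizer (W i : Set G) ≤ DD z ⊔ (YY z i ⊓ normalizer (Z i : Set G)) := by
  obtain ⟨f, hfD, hfW, hfZ⟩ := hp
  have hfY : f ∈ YY z i := DD_le_CT hfD
  -- all vectors
  have key : ∀ w ∈ W i, w ≠ 1 → ∃ x ∈ YY z i, x ∈ DD z ⊔ (YY z i ⊓ normalizer (Z i : Set G)) ∧
      x * z i * x⁻¹ = w := by
    have hZ : ∀ w ∈ Z i, w ≠ 1 → ∃ x ∈ YY z i, x ∈ DD z ⊔ (YY z i ⊓ normalizer (Z i : Set G)) ∧
        x * z i * x⁻¹ = w := by
      intro w hw hw1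
      obtain ⟨x, hxY, hxZ, -, e⟩ := h.tor hw hw1
      exact ⟨x, hxY, mem_sup_right ⟨hxY, hxZ⟩, e⟩
    obtain ⟨w₀, hw₀, hn⟩ : ∃ w ∈ Z i, f * w * f⁻¹ ∉ Z i := by
      by_contra hcon
      push Not at hcon
      apply hfZ
      rw [mem_normalizer_iff_cj]
      refine Subgroup.eq_of_le_of_card_ge ?_ (by rw [card_cj])
      rintro _ ⟨w, hw, rfl⟩
      exact hcon w hw
    have hw01 : w₀ ≠ 1 := by
      rintro rfl
      apply hn
      rw [mul_one, mul_inv_cancel]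
      exact one_mem _
    obtain ⟨x₀, hx₀Y, hx₀, e₀⟩ := hZ w₀ hw₀ hw01
    have hfw : f * w₀ * f⁻¹ ∈ W i := (mem_normalizer_iff.1 hfW w₀).1 ((h.bg.fr.blk i).ZV hw₀)
    intro w hw hw1
    by_cases hwZ : w ∈ Z i
    · exact hZ w hwZ hw1
    · obtain ⟨y, hyY, hyZ, -, ey⟩ := h.trW hfw hn hw hwZ
      refine ⟨y * f * x₀, mul_mem (mul_mem hyY hfY) hx₀Y,
        mul_mem (mul_mem (mem_sup_right ⟨hyY, hyZ⟩) (mem_sup_left hfD)) hx₀, ?_⟩
      calc y * f * x₀ * z i * (y * f * x₀)⁻¹ = y * (f * (x₀ * z i * x₀⁻¹) * f⁻¹) * y⁻¹ := by group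
        _ = w := by rw [e₀, ey]
  rintro g ⟨hgY, hgW⟩
  have h1 : g * z i * g⁻¹ ∈ W i := (mem_normalizer_iff.1 hgW _).1 (h.z_W i)
  obtain ⟨x, hxY, hx, e⟩ := key _ h1 fun e1 => h.z1 i (conj_eq_one_iff.1 e1)
  have h2 : x⁻¹ * g ∈ DD z := by
    refine mem_DD_of (mul_mem (inv_mem hxY) hgY) ?_
    have e2 : x⁻¹ * g * z i * (x⁻¹ * g)⁻¹ = z i := by
      calc x⁻¹ * g * z i * (x⁻¹ * g)⁻¹ = x⁻¹ * (g * z i * g⁻¹) * x := by group
        _ = x⁻¹ * (x * z i * x⁻¹) * x := by rw [e]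
        _ = z i := by group
    exact mul_inv_eq_iff_eq_mul.1 e2
  have e3 : g = x * (x⁻¹ * g) := by group
  rw [e3]
  exact mul_mem hx (mem_sup_left h2)

/-- **`Y_i = ⟨D, Y_i ∩ N(Z_i)⟩`** -/
theorem gen {i : Fin k} (hp : ∃ f ∈ DD z, f ∈ normalizer (W i : Set G) ∧ f ∉ normalizer (Z i : Set G)) :
    YY z i ≤ DD z ⊔ (YY z i ⊓ normalizer (Z i : Set G)) := by
  refine le_of_forall (h.T_Y i) (fun n hn => mem_sup_left (h.norm_T hn.1 hn.2).1) fun R hR hY => ?_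
  rcases h.par hR hY with h1 | h1 | ⟨L', hLR, hRL, hLW, -⟩
  · exact fun r hr => mem_sup_left (mem_DD_of (hY hr) (h1 r hr))
  · exact fun r hr => mem_sup_right ⟨hY hr, h1 i hr⟩
  · refine hRL.trans (sup_le ?_ (h.T_D.trans le_sup_left))
    exact (le_inf (hLR.trans hY) hLW).trans (h.norm_W_le hp)

end FrK

end Cfsg.Agent.Omega.EK3.FK
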