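import Cfsg.Agent.Omega.EK3.FK.Gen
import Cfsg.Agent.Omega.EK3.StarE
import Cfsg.Agent.Omega.ML.Final

/-!
# (4F-K): the frame of STAR

* `FrK.o2_CT_le_T` : `O₂(C_G(z_l : l ∈ s)) ≤ T`;
* `FrK.EE_le_zc` : `⟨ZT^Y⟩ ≤ Ω₁Z(O₂(C_s))` for `Y ≤ C_s`, `ZT = ⟨z_l⟩`;
* `FrK.no` : `(NO)`;
* **`FrK.fr`** : 520's frame `StarE.Fr` with `O = O₂(D)`, `N i = ⟨z_i^{Y_i}⟩`, `L i = Y_i ∩ N(Z_i)`.
-/

set_option autoImplicit false
set_option linter.unusedSectionVars false

namespace Cfsg.Agent.Omega.EK3.FK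

open Subgroup Cfsg Cfsg.Agent.ZN.ChoiceBase
open Cfsg.Agent.ZN (jj zj bau zc zl o2)
open Cfsg.Agent.ZN.ChoiceSit (Syl exists_syl syl_conj)
open Cfsg.Agent.Omega.NO3S.EThree.Frame
open Cfsg.Agent.Omega.NO3S.EThree.ExactA (eab_mono eab_iff)
open Cfsg.Agent.Omega.Node.MultiOf
open Cfsg.Agent.Omega.OM.LevD (LB)
open Cfsg.Agent.Omega.EK3.StarE
open Cfsg.Agent.Omega.EK3.Rank (NoOn)
open Cfsg.Agent.Omega.ML.Final (MLK)
open Cfsg.Agent.MinSimple.MinParabolic (IsMinPar le_of_forall)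
open Cfsg.Agent.MinSimple.VModule (o2_isPGroup le_o2 le_normalizer_o2 o2_le_of_sylow)

universe u

variable {G : Type u} [Group G] {k : ℕ}

/-- `⟨z_l : l⟩` -/
def ZT (z : Fin k → G) : Subgroup G := closure (Set.range z)

/-- `N_i = ⟨z_i^{Y_i}⟩` -/
def NN (z : Fin k → G) (i : Fin k) : Subgroup G := EE (zpowers (z i)) (YY z i)

/-- `L_i = Y_i ∩ N(Z_i)` -/
def LL (z : Fin k → G) (Z : Fin k → Subgroup G) (i : Fin k) : Subgroup G := YY z i ⊓ normalizer (Z i : Set G)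

theorem z_ZT (z : Fin k → G) (i : Fin k) : z i ∈ ZT z := subset_closure ⟨i, rfl⟩

theorem z_NN (z : Fin k → G) (i : Fin k) : z i ∈ NN z i := le_EE _ _ (mem_zpowers _)

theorem cj_zc [Finite G] {g : G} {X : Subgroup G} (hg : g ∈ normalizer (X : Set G)) : cj g (zc (o2 X)) = zc (o2 X) := by
  have h1 : cj g (o2 X) = o2 X := by rw [← pCore_cj, mem_normalizer_iff_cj.1 hg]
  have key : ∀ g : G, cj g (o2 X) = o2 X → cj g (zc (o2 X)) ≤ zc (o2 X) := by
    rintro g hg _ ⟨x, hx, rfl⟩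
    obtain ⟨h2, h3, h4⟩ := mem_zc.1 hx
    refine mem_zc.2 ⟨hg ▸ ⟨x, h2, rfl⟩, ?_, fun y hy => ?_⟩
    · change (g * x * g⁻¹) ^ 2 = 1
      rw [conj_pow, h3, mul_one, mul_inv_cancel]
    · rw [← hg] at hy
      obtain ⟨y, hy, rfl⟩ := hy
      have := h4 y hy
      change g * y * g⁻¹ * (g * x * g⁻¹) = g * x * g⁻¹ * (g * y * g⁻¹)
      calc g * y * g⁻¹ * (g * x * g⁻¹) = g * (y * x) * g⁻¹ := by group
        _ = g * (x * y) * g⁻¹ := by rw [this]
        _ = _ := by group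
  exact Subgroup.eq_of_le_of_card_ge (key g h1) (by rw [card_cj])

theorem EE_le_zc [Finite G] {X Y V : Subgroup G} (hV : V ≤ zc (o2 X)) (hY : Y ≤ X) : EE V Y ≤ zc (o2 X) :=
  EE_le fun y hy => (cj_mono y hV).trans (cj_zc (le_normalizer (hY hy))).le

theorem zc_cent (T : Subgroup G) : zc T ≤ centralizer (T : Set G) := fun x hx => by
  rw [mem_centralizer_iff]
  exact (mem_zc.1 hx).2.2

theorem zc_le (T : Subgroup G) : zc T ≤ T := fun _ hx => (mem_zc.1 hx).1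

namespace FrK

variable [Finite G] {S : Sylow 2 G} {P K B ZJ : Subgroup G} {L W Z C : Fin k → Subgroup G} {z : Fin k → G}
  (h : FrK S P K B ZJ L W Z C z)
include h

theorem exists_v (i : Fin k) : ∃ v ∈ W i, v ∉ Z i := by
  by_contra hcon
  push Not at hcon
  have h1 := (h.bg.fr.blk i).card
  have h2 := Subgroup.card_le_of_le (show W i ≤ Z i from hcon)
  have h3 : 0 < Nat.card (Z i) := Nat.card_pos
  nlinarith [(h.bg.fr.blk i).one]

/-- **`O₂(C_G(z_l : l ∈ s)) ≤ T`** -/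
theorem o2_CT_le_T (s : Set (Fin k)) : o2 (CT z s) ≤ TT S W := by
  have hTX : TT S W ≤ CT z s := h.T_D.trans DD_le_CT
  have hn : TT S W ≤ normalizer (o2 (CT z s) : Set G) := hTX.trans (le_normalizer_o2 _)
  have h2 : IsPGroup 2 (TT S W ⊔ o2 (CT z s) : Subgroup G) :=
    IsPGroup.to_sup_of_normal_right' T_two (o2_isPGroup _) hn
  have hB : B ≤ TT S W ⊔ o2 (CT z s) := h.B_T.trans le_sup_left
  have hNB := h.bg.le_norm_B h2 hB
  have hfix : ∀ t ∈ o2 (CT z s), ∀ i, cj t (W i) = W i := by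
    intro t ht i
    have hX : t ∈ CT z s := Cfsg.Agent.ZN.o2_le _ ht
    by_cases hi : i ∈ s
    · exact (h.fx_of_z (hNB (mem_sup_right ht)) (mem_CT.1 hX i hi)).1
    obtain ⟨σ, hσ⟩ := h.bg.perm_W (hNB (mem_sup_right ht))
    by_cases hji : σ i = i
    · rw [(hσ i).1, hji]
    exfalso
    obtain ⟨m, hm⟩ := σ.surjective i
    have hmi : m ≠ i := by
      rintro rfl
      exact hji hm
    obtain ⟨v, hv, hvZ⟩ := h.exists_v i
    obtain ⟨ρ, hρP, hρC, w, hw, e⟩ := h.bg.tr i v hv (by rintro rfl; exact hvZ (one_mem _))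
    have hρX : ρ ∈ CT z s := CT_mono (Set.subset_compl_singleton_iff.2 hi) (h.YY_of_C hρC)
    have hg : t * (ρ * t⁻¹ * ρ⁻¹) ∈ o2 (CT z s) :=
      mul_mem ht ((mem_normalizer_iff.1 (le_normalizer_o2 _ hρX) _).1 (inv_mem ht))
    have hgJ := h.bg.norm_ZJ (hNB (mem_sup_right hg))
    have hm' : t⁻¹ * w * t ∈ Z m := by
      have h3 := (hσ m).2
      rw [hm] at h3
      rw [← h3, mem_cj] at hw
      exact hw
    have hρm := mem_centralizer_iff.1 hρC _ (h.bg.fr.WjC i m hmi.symm ((h.bg.fr.blk m).ZV hm'))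
    have e' : (t * (ρ * t⁻¹ * ρ⁻¹)) * v * (t * (ρ * t⁻¹ * ρ⁻¹))⁻¹ = w := by
      rw [← e]
      calc (t * (ρ * t⁻¹ * ρ⁻¹)) * (ρ * w * ρ⁻¹) * (t * (ρ * t⁻¹ * ρ⁻¹))⁻¹
          = t * (ρ * (t⁻¹ * w * t) * ρ⁻¹) * t⁻¹ := by group
        _ = t * (t⁻¹ * w * t) * t⁻¹ := by rw [← hρm, mul_inv_cancel_right]
        _ = w := by group
    apply h.bg.not_zj hv hvZ
    refine (mem_normalizer_iff.1 hgJ _).2 ?_
    rw [e']
    exact h.bg.fr.Z_le i hw
  have h3 : ∀ r ∈ TT S W ⊔ o2 (CT z s), ∀ l, cj r (W l) = W l := by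
    intro r hr l
    have h4 : TT S W ⊔ o2 (CT z s) ≤ normalizer (W l : Set G) :=
      sup_le (T_W l) fun t ht => mem_normalizer_iff_cj.2 (hfix t ht l)
    exact mem_normalizer_iff_cj.1 (h4 hr)
  have h4 := Subgroup.eq_of_le_of_card_ge (le_sup_left (a := TT S W)) (h.card_le h2 hB h3)
  rw [h4]
  exact le_sup_right

theorem o2_CT_le_D (s : Set (Fin k)) : o2 (CT z s) ≤ o2 (DD z) :=
  MinSimple.Basic.o2_normal_le_o2 ((h.o2_CT_le_T s).trans h.T_D) DD_le_CT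

theorem z_D (l : Fin k) : z l ∈ DD z := mem_DD.2 fun m => h.ZJ_comm (h.z_ZJ l) (h.z_ZJ m)

theorem ZT_le_zc {s : Set (Fin k)} (hs : s.Nonempty) : ZT z ≤ zc (o2 (CT z s)) := by
  unfold ZT
  rw [closure_le]
  rintro _ ⟨l, rfl⟩
  have h1 : z l ∈ centralizer (o2 (CT z s) : Set G) := by
    rw [mem_centralizer_iff]
    exact fun t ht => h.Tz l t (h.o2_CT_le_T s ht)
  exact mem_zc.2 ⟨h.char2_CT hs ⟨DD_le_CT (h.z_D l), h1⟩, h.ZJ_sq (h.z_ZJ l), fun y hy => h.Tz l y (h.o2_CT_le_T s hy)⟩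

theorem YY_CC (i j : Fin k) : YY z i ≤ CC z i j :=
  CT_mono (Set.compl_subset_compl.2 (Set.singleton_subset_iff.2 (Or.inl rfl)))

theorem YY_CC' (i j : Fin k) : YY z j ≤ CC z i j :=
  CT_mono (Set.compl_subset_compl.2 (Set.singleton_subset_iff.2 (Or.inr rfl)))

theorem EE_zc (h3 : 3 ≤ k) (i j : Fin k) : EE (ZT z) (YY z i ⊔ YY z j) ≤ zc (o2 (CC z i j)) :=
  EE_le_zc (h.ZT_le_zc (ne_compl2 h3 i j)) (sup_le (h.YY_CC i j) (h.YY_CC' i j))

theorem NN_EE (i : Fin k) : NN z i ≤ EE (ZT z) (YY z i) :=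
  EE_le fun y hy => (cj_mono y (zpowers_le.2 (z_ZT z i))).trans (cj_le_EE hy)

theorem NN_zc (h3 : 3 ≤ k) (i j : Fin k) : NN z i ≤ zc (o2 (CC z i j)) :=
  (h.NN_EE i).trans ((EE_mono le_sup_left).trans (h.EE_zc h3 i j))

theorem NN_zc' (h3 : 3 ≤ k) (i j : Fin k) : NN z j ≤ zc (o2 (CC z i j)) :=
  (h.NN_EE j).trans ((EE_mono le_sup_right).trans (h.EE_zc h3 i j))

/-- `N_i ≤ Ω₁Z(O₂(Y_i))` (`k ≥ 2`) -/
theorem NN_zcY (i : Fin k) : NN z i ≤ zc (o2 (YY z i)) :=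
  (h.NN_EE i).trans (EE_le_zc (h.ZT_le_zc (h.ne_compl i)) le_rfl)

theorem NN_O (i : Fin k) : NN z i ≤ o2 (DD z) := (h.NN_zcY i).trans ((zc_le _).trans (h.o2_CT_le_D _))

theorem NN_comm (h3 : 3 ≤ k) (i j : Fin k) : NN z i ≤ centralizer (NN z j : Set G) :=
  (h.NN_zc h3 i j).trans ((zc_cent _).trans (centralizer_le ((h.NN_zc' h3 i j).trans (zc_le _))))

theorem NN_ab (i : Fin k) : NN z i ≤ centralizer (NN z i : Set G) :=
  (h.NN_zcY i).trans ((zc_cent _).trans (centralizer_le ((h.NN_zcY i).trans (zc_le _))))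

theorem NN_sq (i : Fin k) {x : G} (hx : x ∈ NN z i) : x ^ 2 = 1 := (mem_zc.1 (h.NN_zcY i hx)).2.1

omit h in
theorem NN_norm (i : Fin k) : YY z i ≤ normalizer (NN z i : Set G) := norm_EE _ _

/-- `X := C_{Y_i}(N_i) ≤ D`, `O₂(D) ∩ C(N_i) = O₂(X)` -/
theorem OC_eq (i : Fin k) : o2 (DD z) ⊓ centralizer (NN z i : Set G) = o2 (YY z i ⊓ centralizer (NN z i : Set G)) := by
  have hXD : YY z i ⊓ centralizer (NN z i : Set G) ≤ DD z := by
    rintro x ⟨h1, h2⟩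
    exact mem_DD_of h1 (mem_centralizer_iff.1 h2 _ (z_NN z i)).symm
  have hnX : YY z i ≤ normalizer ((YY z i ⊓ centralizer (NN z i : Set G) : Subgroup G) : Set G) := by
    intro y hy
    rw [mem_normalizer_iff_cj, cj_inf, cj_centralizer, mem_normalizer_iff_cj.1 (NN_norm i hy),
      mem_normalizer_iff_cj.1 (le_normalizer hy)]
  apply le_antisymm
  · refine le_o2 (le_inf (inf_le_left.trans ((Cfsg.Agent.ZN.o2_le _).trans DD_le_CT)) inf_le_right)
      ((o2_isPGroup _).to_le inf_le_left) ?_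
    intro x hx
    have h3 : cj x (o2 (DD z)) = o2 (DD z) := mem_normalizer_iff_cj.1 (le_normalizer_o2 _ (hXD hx))
    rw [mem_normalizer_iff_cj, cj_inf, cj_centralizer, mem_normalizer_iff_cj.1 (NN_norm i hx.1), h3]
  · refine le_inf (le_o2 ((Cfsg.Agent.ZN.o2_le _).trans hXD) (o2_isPGroup _) ?_)
      ((Cfsg.Agent.ZN.o2_le _).trans inf_le_right)
    intro x hx
    rw [mem_normalizer_iff_cj, ← pCore_cj, mem_normalizer_iff_cj.1 (hnX (DD_le_CT hx))]

theorem YQ (i : Fin k) : YY z i ≤ normalizer ((o2 (DD z) ⊓ centralizer (NN z i : Set G) : Subgroup G) : Set G) := by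
  rw [h.OC_eq i]
  intro x hx
  have hnX : x ∈ normalizer ((YY z i ⊓ centralizer (NN z i : Set G) : Subgroup G) : Set G) := by
    rw [mem_normalizer_iff_cj, cj_inf, cj_centralizer, mem_normalizer_iff_cj.1 (NN_norm i hx),
      mem_normalizer_iff_cj.1 (le_normalizer hx)]
  rw [mem_normalizer_iff_cj, ← pCore_cj, mem_normalizer_iff_cj.1 hnX]

/-- **(NO)** -/
theorem no (hML : MLK.{u, u}) {j : Fin k} (hK : IsKGroup (YY z j)) : NoOn (o2 (DD z)) (NN z j) := by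
  intro A hA2 hA
  have hD : ∀ {g : G}, g ∈ YY z j → g * z j * g⁻¹ * (z j)⁻¹ = 1 → g ∈ DD z := by
    intro g hg hgm
    rw [mul_inv_eq_one] at hgm
    exact mem_DD_of hg (mul_inv_eq_iff_eq_mul.1 hgm)
  have hmain : (A ⊓ centralizer (NN z j : Set G)).relIndex A ≤
      (NN z j ⊓ centralizer (A : Set G)).relIndex (NN z j) := by
    refine hML.grp (C := YY z j) (W := NN z j) (Y := ⊥) (T := TT S W)
      (Q := o2 (DD z)) (A := A) (w := z j) hK
      { nW := NN_norm j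
        nY := fun x _ => by
          rw [mem_normalizer_iff]
          intro y
          rw [mem_bot, mem_bot, conj_eq_one_iff]
        YW := bot_le
        WY := fun x _ => by
          rw [mem_normalizer_iff]
          intro y
          rw [mem_bot, mem_bot, conj_eq_one_iff]
        sq := fun x hx => by
          rw [mem_bot, ← pow_two]
          exact h.NN_sq j hx
        mem := z_NN z j
        gen := fun U hmU _ hU => by
          refine EE_le fun y hy => ?_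
          have h1 : cj y U = U := mem_normalizer_iff_cj.1 (hU hy)
          rw [← h1]
          exact cj_mono y (zpowers_le.2 hmU)
        TC := h.T_Y j
        two := T_two
        odd := Cfsg.Agent.ZN.ChoiceSit.syl_not_dvd (h.syl_Y (h.T_Y j) le_rfl)
        fixT := fun t ht => by
          rw [mem_bot, h.Tz j t ht]; group
        QC := (Cfsg.Agent.ZN.o2_le _).trans DD_le_CT
        Q2 := o2_isPGroup _
        fixQ := fun x hx => by
          rw [mem_bot, mem_DD.1 (Cfsg.Agent.ZN.o2_le _ hx) j]; group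
        nrmQ := fun g hg hgm x hx => by
          rw [mem_bot] at hgm
          exact (mem_normalizer_iff.1 (le_normalizer_o2 _ (hD hg hgm)) x).1 hx
        AQ := hA
        Asq := fun a ha x hx => by
          have h1 := (eab_iff.1 hA2).2 a ha
          rw [mem_bot]
          calc a * (a * x * a⁻¹) * a⁻¹ * x⁻¹ = a ^ 2 * x * (a ^ 2)⁻¹ * x⁻¹ := by rw [pow_two]; group
            _ = 1 := by rw [h1]; group } ?_ ?_
    · intro a
      rw [mem_inf]
      refine and_congr_right fun ha => ?_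
      rw [mem_centralizer_iff]
      refine forall₂_congr fun x hx => ?_
      rw [mem_bot, mul_inv_eq_one, mul_inv_eq_iff_eq_mul, eq_comm]
    · intro x
      rw [mem_inf]
      refine and_congr_right fun hx => ?_
      rw [mem_centralizer_iff]
      refine forall₂_congr fun a ha => ?_
      rw [mem_bot, mul_inv_eq_one, mul_inv_eq_iff_eq_mul]
  rwa [inf_relIndex_left, inf_relIndex_left] at hmain

/-- (E): `⟨D, L_i⟩` normalises no nontrivial 2-subgroup -/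
theorem nonloc (hE : NLoc (KZ B ZJ)) (hgen : ∀ i, YY z i ≤ DD z ⊔ LL z Z i) {U : Subgroup G} (hU2 : IsPGroup 2 U)
    (hD : DD z ≤ normalizer (U : Set G)) (hL : ∀ i, LL z Z i ≤ normalizer (U : Set G)) : U = ⊥ := by
  refine hE U hU2 (sup_le (h.cZJ_D.trans hD) (iSup_le ?_))
  rintro ⟨⟨L', V'⟩, hb⟩
  obtain ⟨i, -, hc⟩ := h.uni L' V' hb
  have h1 : L' ≤ YY z i := fun x hx => mem_YY.2 fun l hl =>
    hc _ (h.z_ZJ l) (h.bg.fr.WjC i l (Ne.symm hl) (h.z_W l)) x hx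
  exact h1.trans ((hgen i).trans (sup_le hD (hL i)))

/-- **The frame of STAR** -/
theorem fr (h3 : 3 ≤ k) (hML : MLK.{u, u}) (hK : ∀ j, IsKGroup (YY z j)) (hE : NLoc (KZ B ZJ))
    (hp : ∀ i, ∃ f ∈ DD z, f ∈ normalizer (W i : Set G) ∧ f ∉ normalizer (Z i : Set G)) :
    Fr (o2 (DD z)) (DD z) (ZT z) (YY z) (NN z) (LL z Z) where
  OD := Cfsg.Agent.ZN.o2_le _
  DO := le_normalizer_o2 _
  OZ := by
    refine (Cfsg.Agent.ZN.o2_le _).trans (le_centralizer_iff.1 ?_)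
    unfold ZT
    rw [closure_le]
    rintro _ ⟨l, rfl⟩
    exact mem_centralizer_iff.2 fun x hx => mem_DD.1 hx l
  DY _ := DD_le_CT
  LY _ := inf_le_left
  YDL i := h.gen (hp i)
  eab i := eab_iff.2 ⟨h.NN_ab i, fun _ hx => h.NN_sq i hx⟩
  NQ i j := le_inf (h.NN_O i) (h.NN_comm h3 i j)
  YN i := NN_norm i
  YQ i := h.YQ i
  no i := h.no hML (hK i)
  nl U hU hD hL := h.nonloc hE (fun i => h.gen (hp i)) ((o2_isPGroup _).to_le hU) hD hL
  Eeab i j _ := eab_mono (Cfsg.Agent.ZN.isElementaryAbelian_zc _) (h.EE_zc h3 i j)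
  EO i j _ := (h.EE_zc h3 i j).trans ((zc_le _).trans (h.o2_CT_le_D _))
  NE i := h.NN_EE i

end FrK

end Cfsg.Agent.Omega.EK3.FK
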