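import Cfsg.Agent.Omega.EK3.FK.KOne
import Cfsg.Agent.Omega.EK3.FK.Loc
import Cfsg.Agent.Omega.EK3.Q.Claim

/-!
# (4F-K), K1 over `FrK`, every stage, `k ≥ 2`

* `FrK.inp_of_md` : the input `KOne.Inp` from module data `MD`;  `FrK.exists_inp` : at every stage;
* **`FrK.o2_le_W`** : `O₂(D) ≤ C(W i)`;  **`FrK.o2_le_Z`** : `O₂(D) ≤ C(Z i)`.
-/

set_option autoImplicit false
set_option linter.unusedSectionVars false

namespace Cfsg.Agent.Omega.EK3.FK

open Subgroup Cfsg Cfsg.Agent.ZN.ChoiceBase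
open Cfsg.Agent.ZN (jj zj bau zc zl o2)
open Cfsg.Agent.ZN.ChoiceSit (Syl exists_syl syl_conj)
open Cfsg.Agent.Omega.NO3S.EThree.Frame
open Cfsg.Agent.Omega.FFThm (NatK)
open Cfsg.Agent.Omega.OM.FourF (Act Co conjW MD)
open Cfsg.Agent.Omega.OM.Lev.Nat
open Cfsg.Agent.Omega.Node.MultiOf
open Cfsg.Agent.MinSimple.VModule (o2_isPGroup le_o2 le_normalizer_o2 o2_le_of_sylow)

universe u

variable {G : Type u} [Group G] {k : ℕ}

namespace FrK

variable [Finite G] {S : Sylow 2 G} {P K B ZJ : Subgroup G} {L W Z C : Fin k → Subgroup G} {z : Fin k → G}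
  (h : FrK S P K B ZJ L W Z C z)
include h

theorem inp_of_md {F : Type} [Field F] [CharP F 2] (hF : Nat.card F = 4) {V D' : Subgroup G}
    {N : NatK F (S : Subgroup G) P V D' k} {ZJ' : Subgroup G} {W' Z' : Fin k → Subgroup G} {z₀ f₀ : Fin k → F}
    (m : MD N B ZJ' W' Z' z₀ f₀) (σ : Equiv.Perm (Fin k)) (hW : ∀ i, W i = W' (σ i)) (hZ : ∀ i, Z i = Z' (σ i))
    (i : Fin k) : KOne.Inp (YY z i) (o2 (DD z)) (W i) (Z i) (z i) (MD.co N z₀ f₀ (σ i)) := by
  have hOT : o2 (DD z) ≤ TT S W := h.o2_CT_le_T Set.univ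
  have hTZ : ∀ t ∈ TT S W, cj t (Z' (σ i)) = Z' (σ i) := by
    intro t ht
    rw [← hZ i]
    exact mem_normalizer_iff_cj.1 (h.T_Z i ht)
  have hact : ∀ t ∈ TT S W, ∃ l : F, KOne.ALin (W i) (MD.co N z₀ f₀ (σ i)) l t ∨
      KOne.ASem (W i) (MD.co N z₀ f₀ (σ i)) l t := by
    intro t ht
    rw [hW i]
    exact m.act4 hF (T_le_S ht) (hTZ t ht)
  -- `u = z i`
  obtain ⟨u, hu, hue⟩ := m.exists_u (σ i)
  have huZ : u ∈ Z i := by rw [hZ i]; exact hu
  have huW : u ∈ W i := (h.bg.fr.blk i).ZV huZ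
  have hu1 : u ≠ 1 := by
    rintro rfl
    have h5 := m.co_mul (i := σ i) (one_mem V) (one_mem V)
    rw [mul_one] at h5
    rw [left_eq_add.1 h5] at hue
    have := congrArg Prod.fst hue
    simp at this
  have huz : u = z i := by
    refine (h.fx i u huZ fun t ht => ?_).resolve_left hu1
    have htW : t * u * t⁻¹ ∈ W i := conjW (T_W i ht) huW
    refine mul_inv_eq_iff_eq_mul.1 (m.co_inj (i := σ i) (by rw [← hW i]; exact htW) (by rw [← hW i]; exact huW) ?_)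
    obtain ⟨l, hl | hl⟩ := hact t ht
    · rw [hl u huW, hue]
      ext <;> simp
    · rw [hl u huW, hue]
      ext <;> simp
  subst huz
  exact
  { card := hF
    co := by
      rw [hW i, hZ i]
      exact m.toCo hu hue
    OW := hOT.trans (T_W i)
    act := fun o ho => hact o (hOT ho)
    full := fun l => by
      obtain ⟨b, hb, h1⟩ := m.full (σ i) l
      refine ⟨b, (h.B_T.trans h.T_D).trans (le_normalizer_o2 _) hb, h.B_W i hb, ?_⟩
      rw [hW i]
      exact h1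
    sl := fun a b c d hd => by
      obtain ⟨g, -, hg, h1, h2⟩ := m.sl (σ i) a b c d hd
      refine ⟨g, mem_YY.2 fun l hl => ?_, by rw [hW i]; exact hg, by rw [hW i]; exact h1⟩
      refine h2 (σ l) (fun e => hl (σ.injective e)) _ ?_
      rw [← hW l]
      exact h.z_W l
    nor := fun x hx _ hxz => le_normalizer_o2 _ (mem_DD_of hx hxz) }

theorem hz : Q.HZ S W Z z := fun i => ⟨h.zZ i, h.z1 i, fun w hw => ⟨fun h1 => h.fx i w hw h1, by
  rintro (rfl | rfl)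
  · intro t _
    simp
  · exact fun t ht => h.Tz i t ht⟩⟩

theorem exists_inp : ∃ (F : Type) (_ : Field F) (_ : CharP F 2) (e : Fin k → G → F × F),
    ∀ i, KOne.Inp (YY z i) (o2 (DD z)) (W i) (Z i) (z i) (e i) := by
  have hbg := h.bg
  have huni := h.uni
  by_cases hJ : jj (S : Subgroup G) ≤ o2 P
  · obtain ⟨n, F, _, _, _, M, L', Z', A', σ, hF, -, rfl, rfl, D, hσ⟩ := OM.SWQ.exists_dtl_mul h.mul h.two hJ
    have hW : ∀ i, Wn M (σ i) = W i := by
      intro i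
      obtain ⟨j, hj, -⟩ := huni _ _ (⟨⟨_, _, D.bg.fr.blk (σ i)⟩, D.bg.block (σ i)⟩ : FBl _ (L' (σ i)) (Wn M (σ i)))
      have h1 : Z' (σ i) = Z j := by
        ext x
        rw [(D.bg.fr.blk (σ i)).toMd.mem_Z_iff, (hbg.fr.blk j).toMd.mem_Z_iff, hj]
      rw [hj, ← hbg.Z_inj (by rw [hσ i, h1] : Z i = Z j)]
    obtain ⟨z₀, f₀, m⟩ := D.exists_md
    exact ⟨F, inferInstance, inferInstance, fun i => MD.co M.nat z₀ f₀ (σ i),
      fun i => h.inp_of_md hF m σ (fun i => (hW i).symm) hσ i⟩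
  · have hBZ : B = bau (S : Subgroup G) ∧ ZJ = zj (S : Subgroup G) := by
      cases h.mul.stg with
      | neg _ => exact ⟨rfl, rfl⟩
      | lev m _ hm _ => exact absurd ((NO3S.Level.lev_mono (S : Subgroup G) (Nat.zero_le m)).trans hm) hJ
    obtain ⟨rfl, rfl⟩ := hBZ
    obtain ⟨F, _, _, _, hF, ⟨N⟩⟩ := h.mul.nat
    obtain ⟨L', W', Z', C', A', D⟩ := OM.YThm.Plug.exists_dt ⟨h.mul.hyp.toHypN, hJ⟩ h.two N.toNatK
    obtain ⟨σ, hσ⟩ := Q.exists_match h.bg h.uni (fun i => D.line.fr.blk i) D.line.fr.cardZ fun a b e => by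
      by_contra hab
      obtain ⟨b', hb', v, hv, hne'⟩ := (D.line.fr.blk a).ne
      apply hne'
      have h1 : v ∈ W' a ⊓ C' a := mem_inf.2 ⟨hv, D.line.fr.WjC a b hab (e ▸ hv)⟩
      rw [D.line.fr.dir a, mem_bot] at h1
      rw [h1, mul_one, one_mul]
    obtain ⟨z₀, f₀, m⟩ := OM.FourF.exists_md D
    exact ⟨F, inferInstance, inferInstance, fun i => MD.co N.toNatK z₀ f₀ (σ i),
      fun i => h.inp_of_md hF m σ (fun i => (hσ i).1) (fun i => (hσ i).2) i⟩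

/-- **K1** : `O₂(D)` centralises `W i` -/
theorem o2_le_W {i : Fin k} (hp : ∃ f ∈ DD z, f ∈ normalizer (W i : Set G) ∧ f ∉ normalizer (Z i : Set G)) :
    o2 (DD z) ≤ centralizer (W i : Set G) := by
  obtain ⟨F, _, _, e, he⟩ := h.exists_inp
  obtain ⟨f, hf, hfW, hfZ⟩ := hp
  exact (he i).le_cent (DD_le_CT hf) hfW (mem_DD.1 hf i) hfZ

/-- **K1** : `O₂(D)` centralises `Z i` -/
theorem o2_le_Z {i : Fin k} (hp : ∃ f ∈ DD z, f ∈ normalizer (W i : Set G) ∧ f ∉ normalizer (Z i : Set G)) :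
    o2 (DD z) ≤ centralizer (Z i : Set G) := (h.o2_le_W hp).trans (centralizer_le (h.bg.fr.blk i).ZV)

end FrK

end Cfsg.Agent.Omega.EK3.FK
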