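import Cfsg.Agent.Omega.EK3.FK.OfSplit
import Cfsg.Agent.Omega.EK3.Q.Claim
import Cfsg.Agent.Omega.EK3.Q.OfMul

/-!
# (E), `k ≥ 3`, `q ≥ 4`, every stage: (TI), modulo `MLK`, `Ext`

* `false_mul` : the second alternative of `Q.split` ((4F-K)) is impossible;
* **`ti_mul`** : (TI) over `Mul`, `3 ≤ k`, `4 ≤ q`, `NLoc (KZ B ZJ)`;
* **`frQ_mul`** : the frame `FrQ`.
-/

set_option autoImplicit false
set_option linter.unusedSectionVars false

namespace Cfsg.Agent.Omega.EK3.FK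

open Subgroup Cfsg Cfsg.Agent.ZN.ChoiceBase
open Cfsg.Agent.Omega.Node.MultiOf
open Cfsg.Agent.Omega.ML.Final (MLK)

universe u

variable {G : Type u} [Group G] [Finite G] {S : Sylow 2 G} {P K B ZJ : Subgroup G} {k : ℕ}
  {L W Z C : Fin k → Subgroup G}

/-- **(4F-K) is impossible**, every stage. -/
theorem false_mul (hML : MLK.{u, u}) (hX : ML.Ex.Two.Ext.{u, u}) (h : Mul S P K B ZJ L W Z C 4) (hk : 3 ≤ k)
    (hE : NLoc (KZ B ZJ)) {z : Fin k → G} (hz : Q.HZ S W Z z)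
    (hi : ∃ i, ¬ (⨅ l, centralizer ({z l} : Set G)) ≤ normalizer (Z i : Set G)) : False := by
  have uni := Q.OfMul.uni_mul h (by omega) (by omega)
  have blk := fun T (hT : B ≤ T) => Q.OfMul.blk_mul h (by omega) (by omega) (T := T) hT
  have hF : FrK S P K B ZJ L W Z C z := frK_of h (by omega) uni (blk _ (Q.B_le_TStar h.bg)) hz
  have e : (⨅ l, centralizer ({z l} : Set G)) ≤ DD z := fun x hx => mem_DD.2 fun l =>
    mem_centralizer_singleton_iff.1 (mem_iInf.1 hx l)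
  refine hF.false_of hk hML hX hF.kgroup hE fun i => ?_
  obtain ⟨f, hf, h1, h2⟩ := Q.hp h (by omega) blk uni hz hi i
  exact ⟨f, e hf, h1, h2⟩

/-- **(TI), `k ≥ 3`, `q ≥ 4`**, every stage. -/
theorem ti_mul (hML : MLK.{u, u}) (hX : ML.Ex.Two.Ext.{u, u}) {q : ℕ} (h : Mul S P K B ZJ L W Z C q) (hk : 3 ≤ k)
    (hq : 4 ≤ q) (hE : NLoc (KZ B ZJ)) :
    ∀ i j, i ≠ j → ∀ z ∈ Z i, z ≠ 1 → centralizer ({z} : Set G) ⊓ Q.CQ Z i j ≤ normalizer (Z i : Set G) := by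
  rcases Q.split h (by omega) hq (fun T hT => Q.OfMul.blk_mul h (by omega) (by omega) (T := T) hT)
    (Q.OfMul.uni_mul h (by omega) (by omega)) with h1 | ⟨rfl, z, hz, hi⟩
  · exact h1
  · exact (false_mul hML hX h hk hE hz hi).elim

/-- **The frame `FrQ`**, every stage. -/
theorem frQ_mul (hML : MLK.{u, u}) (hX : ML.Ex.Two.Ext.{u, u}) {q : ℕ} (h : Mul S P K B ZJ L W Z C q) (hk : 3 ≤ k)
    (hq : 4 ≤ q) (hE : NLoc (KZ B ZJ)) : Q.FrQ S P K B ZJ L W Z C q where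
  mul := h
  three := hk
  four := hq
  ti := ti_mul hML hX h hk hq hE
  uni := Q.OfMul.uni_mul h (by omega) (by omega)
  blk j := Q.OfMul.blk_mul h (by omega) (by omega) (le_inf h.bg.BS fun b hb => Q.mem_YQ.2 fun l _ w hw =>
    (h.bg.fr.blk l).cZ b hb w hw)

end Cfsg.Agent.Omega.EK3.FK
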